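import Cfsg.Agent.H954.TSBridge
import Cfsg.Agent.H884.ElLin
import Cfsg.Agent.H884.ElNum
import Cfsg.Agent.H436.Ppd
import Cfsg.Agent.LieClassical.OmegaReindex

/-!
# COV-O8+ (S2499): elements of type `A`
-/

set_option autoImplicit false

namespace Cfsg.Agent.H375.O8

open Module QuadraticMap Cfsg Cfsg.Geo Cfsg.Agent.LieClassical.OrthCore Cfsg.Agent.H955 Cfsg.Agent.H954.TSing
open Cfsg.Agent.LieClassical.OmegaReindex Cfsg.Agent.H957 Cfsg.Agent.FooteOrth
open Cfsg.Agent.H951 (fx cm)
open Cfsg.Agent.H884.El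
open Cfsg.Agent.H436 (Prim)
open scoped MatrixGroups Matrix

section Gen

variable {F : Type} [Field F]

theorem lin_glOf {ι : Type} [Fintype ι] [DecidableEq ι] (T : (ι → F) ≃ₗ[F] (ι → F)) : lin (glOf T) = (T : Module.End F (ι → F)) := by
  apply LinearMap.ext
  intro v
  change Matrix.toLin' (glOf T : Matrix ι ι F) v = T v
  rw [Matrix.toLin'_apply, glOf_mulVec]

theorem cm_glOf {ι : Type} [Fintype ι] [DecidableEq ι] (T : (ι → F) ≃ₗ[F] (ι → F)) : cm (lin (glOf T)) = comS T := by
  rw [lin_glOf, cm_coe]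

variable {V : Type} [AddCommGroup V] [Module F V] [FiniteDimensional F V] {Q : QuadraticForm F V}

theorem comS_ext1' {W : Submodule F V} (h : Nondeg (res Q W)) (T : W ≃ₗ[F] W) :
    comS (ext1 h T) = (comS T).map W.subtype := by
  ext v
  rw [mem_comS, Submodule.mem_map]
  constructor
  · rintro ⟨y, rfl⟩
    obtain ⟨a, b, rfl⟩ := exists_add_perp h y
    refine ⟨T a - a, mem_comS.2 ⟨a, rfl⟩, ?_⟩
    rw [map_add, ext1_left, ext1_right h T b.2, add_sub_add_right_eq_sub]
    rfl
  · rintro ⟨x, hx, rfl⟩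
    obtain ⟨a, rfl⟩ := mem_comS.1 hx
    exact ⟨(a : V), by rw [ext1_left]; rfl⟩

theorem finrank_comS_ext1 {W : Submodule F V} (h : Nondeg (res Q W)) (T : W ≃ₗ[F] W) :
    finrank F (comS (ext1 h T)) = finrank F (comS T) := by
  rw [comS_ext1']
  exact (Submodule.equivMapOfInjective W.subtype (Submodule.subtype_injective W) (comS T)).finrank_eq.symm

omit [FiniteDimensional F V] in
theorem siegel_pow {e d : V} (he : Q e = 0) (hd : polar Q e d = 0) (n : ℕ) (hn : polar Q e ((n : F) • d) = 0) :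
    siegel Q e d he hd ^ n = siegel Q e ((n : F) • d) he hn := by
  induction n with
  | zero =>
    apply LinearEquiv.ext
    intro v
    rw [pow_zero, siegel_apply]
    simp
  | succ n ih =>
    have hn' : polar Q e ((n : F) • d) = 0 := by rw [polar_smul_right, hd, smul_zero]
    have h : polar Q e ((n : F) • d + d) = 0 := by rw [polar_add_right, hn', hd, add_zero]
    rw [pow_succ, ih hn', siegel_mul he hn' hd h]
    congr 1
    push_cast
    module

end Gen

variable {F : Type} [Field F] [Fintype F] {p a r : ℕ}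

theorem card_ord (hF : Nat.card F = p ^ a) (hp : p.Prime) (ha : 1 ≤ a) (h : Prim p (4 * a) r) :
    orderOf (Fintype.card F : ZMod r) = 4 := by
  have hF' : Fintype.card F = p ^ a := by rw [← Nat.card_eq_fintype_card]; exact hF
  have := Fact.mk h.prime
  have key : ∀ j : ℕ, ((Fintype.card F : ℕ) : ZMod r) ^ j = 1 ↔ 4 ∣ j := by
    intro j
    have h1 : ((Fintype.card F : ℕ) : ZMod r) ^ j = 1 ↔ r ∣ p ^ (a * j) - 1 := by
      rw [hF']
      rw [← (ZMod.natCast_eq_zero_iff _ _ : ((p ^ (a * j) - 1 : ℕ) : ZMod r) = 0 ↔ _)]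
      rw [Nat.cast_sub (Nat.one_le_pow _ _ hp.pos), sub_eq_zero]
      push_cast
      rw [pow_mul]
    rw [h1, h.dvd_iff, mul_comm 4 a]
    exact Nat.mul_dvd_mul_iff_left (by omega)
  apply Nat.dvd_antisymm
  · exact orderOf_dvd_of_pow_eq_one ((key 4).2 dvd_rfl)
  · exact (key _).1 (pow_orderOf_eq_one _)

theorem exists_typeA_aux (hF : Nat.card F = p ^ a) (hp : p.Prime) (ha : 1 ≤ a) (h : Prim p (4 * a) r) :
    ∃ (u w : GL (Fin 4 ⊕ Fin 4) F) (s : ℕ), u ∈ isometryGroup F (quadFormPlus 4 F) ∧ w ∈ isometryGroup F (quadFormPlus 4 F) ∧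
      u ^ r = 1 ∧ u ≠ 1 ∧ finrank F (cm (lin u)) = 4 ∧ u * w = w * u ∧ (∀ v ∈ cm (lin u), lin w v = v) ∧ w ^ s = 1 ∧ Odd s ∧
      Nat.Coprime r s ∧ ((Nat.card F = 2 ∨ Nat.card F = 3) → s = 3 ∧ w ≠ 1) ∧
      (finrank F (LinearMap.range ((lin w - 1) ^ 2)) = 1 ∨ (PP (Nat.card F) 2 s ∧ finrank F (cm (lin w)) = 2)) := by
  have hF' : Fintype.card F = p ^ a := by rw [← Nat.card_eq_fintype_card]; exact hF
  have hrp := Fact.mk h.prime
  have hpp := Fact.mk hp
  set Q := quadPlus 4 F with hQdef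
  have hQ : Nondeg Q := nondeg_of_nondegenerate quadPlus_nondegenerate
  have hcoe : (⇑Q) = quadFormPlus 4 F := coe_quadPlus 4 F
  have h4 := card_ord hF hp ha h
  have hdim : finrank F (Fin 4 ⊕ Fin 4 → F) = 8 := by rw [Module.finrank_fintype_fun_eq_card]; rfl
  have hrF : (r : F) ≠ 0 := natCast_ne_zero_of_not_dvd (by
    rw [hF]
    exact fun hd => h.not_dvd (h.prime.dvd_of_dvd_pow hd))
  have hr2 : 2 < r := by
    have h1 := h.prime.two_le
    have h2 : orderOf (Fintype.card F : ZMod r) ∣ r - 1 := ZMod.orderOf_dvd_card_sub_one (by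
      intro h0
      rw [h0, orderOf_zero] at h4
      omega)
    rw [h4] at h2
    have := Nat.le_of_dvd (by omega) h2
    omega
  obtain ⟨T, hTO, hTr, hT1, hTd, -⟩ := exists_sharp (Q := Q) hr2 hrF (by rw [h4]; decide) hQ (A := 1) le_rfl
    (Or.inl ⟨by rw [hdim]; decide, Or.inl (by rw [h4, hdim]; norm_num)⟩)
  rw [h4, mul_one] at hTd
  have hfd : finrank F (fixS T) = 4 := by
    have := finrank_fixS_add_comS T
    omega
  have hnc : Nondeg (res Q (comS T)) := nondeg_comS hQ hTO hrF hTr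
  have hnf : Nondeg (res Q (fixS T)) := by
    rw [← perp_comS hQ hTO]
    exact nondeg_perp hQ hnc
  have hpf : perp Q (fixS T) = comS T := perp_fixS hQ hTO
  have huO : glOf T ∈ isometryGroup F (quadFormPlus 4 F) := by
    rw [← hcoe, H957.mem_isometryGroup]
    intro v
    rw [glOf_mulVec]
    exact hTO v
  have hur : glOf T ^ r = 1 := by rw [← glOf_pow, hTr, glOf_one]
  have hu1 : glOf T ≠ 1 := by
    intro h1
    apply hT1
    rw [← eOf_glOf T, h1, eOf_one]
  have hud : finrank F (cm (lin (glOf T))) = 4 := by rw [cm_glOf]; exact hTd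
  -- reduction to linear automorphisms
  suffices hmain : ∃ (S : (Fin 4 ⊕ Fin 4 → F) ≃ₗ[F] (Fin 4 ⊕ Fin 4 → F)) (s : ℕ), S ∈ O Q ∧ T * S = S * T ∧ (∀ v ∈ comS T, S v = v) ∧
      S ^ s = 1 ∧ Odd s ∧ Nat.Coprime r s ∧ S ≠ 1 ∧ ((Nat.card F = 2 ∨ Nat.card F = 3) → s = 3) ∧
      (finrank F (LinearMap.range (((S : Module.End F (Fin 4 ⊕ Fin 4 → F)) - 1) ^ 2)) = 1 ∨
        (PP (Nat.card F) 2 s ∧ finrank F (comS S) = 2)) by
    obtain ⟨S, s, hSO, hTS, hSf, hSs, hso, hrs, hS1, hs3, hsh⟩ := hmain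
    refine ⟨glOf T, glOf S, s, huO, ?_, hur, hu1, hud, ?_, ?_, ?_, hso, hrs, fun h1 => ⟨hs3 h1, ?_⟩, ?_⟩
    · rw [← hcoe, H957.mem_isometryGroup]
      intro v
      rw [glOf_mulVec]
      exact hSO v
    · rw [← glOf_mul, ← glOf_mul, hTS]
    · intro v hv
      rw [cm_glOf] at hv
      rw [lin_glOf]
      exact hSf v hv
    · rw [← glOf_pow, hSs, glOf_one]
    · intro h1
      apply hS1
      rw [← eOf_glOf S, h1, eOf_one]
    · rw [lin_glOf, cm_coe]
      exact hsh
  by_cases h2 : (2 : F) = 0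
  · -- even characteristic
    have hp2 : p = 2 := by
      have h3 : ringChar F = 2 := CharP.ringChar_of_prime_eq_zero Nat.prime_two (by exact_mod_cast h2)
      have h4 := FiniteField.even_card_iff_char_two.1 h3
      rw [hF'] at h4
      have h5 : 2 ∣ p ^ a := Nat.dvd_of_mod_eq_zero h4
      exact ((Nat.prime_dvd_prime_iff_eq Nat.prime_two hp).1 (Nat.prime_two.dvd_of_dvd_pow h5)).symm
    subst hp2
    set l := Nat.minFac (2 ^ a + 1) with hl
    have h1a : 2 ≤ 2 ^ a := by
      calc 2 = 2 ^ 1 := rfl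
        _ ≤ 2 ^ a := Nat.pow_le_pow_right (by norm_num) ha
    have hlp : l.Prime := Nat.minFac_prime (by omega)
    have hld : l ∣ 2 ^ a + 1 := Nat.minFac_dvd _
    have hl2 : l ≠ 2 := by
      intro h3
      rw [h3] at hld
      have h5 : 2 ∣ 2 ^ a := dvd_pow_self 2 (by omega)
      have : 2 ∣ 1 := (Nat.dvd_add_right h5).1 hld
      omega
    have hlo : Odd l := hlp.odd_of_ne_two hl2
    have hfl := Fact.mk hlp
    have hq : ((Fintype.card F : ℕ) : ZMod l) = -1 := by
      rw [hF']
      have h3 : ((2 ^ a + 1 : ℕ) : ZMod l) = 0 := (ZMod.natCast_eq_zero_iff _ _).2 hld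
      push_cast at h3 ⊢
      exact eq_neg_of_add_eq_zero_left h3
    have hord : orderOf ((Fintype.card F : ℕ) : ZMod l) = 2 := by
      rw [hq]
      have h3 : (-1 : ZMod l) ≠ 1 := by
        intro h5
        have h6 : ((2 : ℕ) : ZMod l) = 0 := by
          push_cast
          linear_combination -h5
        have h7 := (ZMod.natCast_eq_zero_iff _ _).1 h6
        exact hl2 ((Nat.prime_dvd_prime_iff_eq hlp Nat.prime_two).1 h7)
      exact orderOf_eq_prime (by ring) h3
    have hlF : (l : F) ≠ 0 := natCast_ne_zero_of_not_dvd (by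
      rw [hF]
      intro hd
      exact hl2 ((Nat.prime_dvd_prime_iff_eq hlp Nat.prime_two).1 (hlp.dvd_of_dvd_pow hd)))
    obtain ⟨S, hSO, hSl, hS1, hSd, -⟩ := exists_sharp (Q := res Q (fixS T)) (r := l) (by
        have := hlp.two_le
        omega) hlF (by rw [hord]; decide) hnf (A := 1) le_rfl
      (Or.inl ⟨by rw [hfd]; decide, Or.inl (by rw [hord, hfd]; norm_num)⟩)
    rw [hord, mul_one] at hSd
    refine ⟨ext1 hnf S, l, ext1_mem_O hnf hSO, ?_, ?_, ext1_pow hnf hSl, hlo, ?_, ?_, ?_, Or.inr ⟨⟨hlp, ?_⟩, ?_⟩⟩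
    · apply LinearEquiv.ext
      intro v
      obtain ⟨x, y, rfl⟩ := exists_add_perp hnf v
      have hy : (y : Fin 4 ⊕ Fin 4 → F) ∈ comS T := by rw [← hpf]; exact y.2
      have hTy : T (y : Fin 4 ⊕ Fin 4 → F) ∈ perp Q (fixS T) := hpf.ge (map_mem_comS hy)
      have e1 : T (x : Fin 4 ⊕ Fin 4 → F) = x := mem_fixS.1 x.2
      have e2 : T (S x : Fin 4 ⊕ Fin 4 → F) = S x := mem_fixS.1 (S x).2
      rw [LinearEquiv.mul_apply, LinearEquiv.mul_apply, map_add, map_add, map_add, map_add, ext1_left, ext1_right hnf S y.2, e1, e2,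
        ext1_left, ext1_right hnf S hTy]
    · intro v hv
      rw [← hpf] at hv
      exact ext1_right hnf S hv
    · rw [Nat.coprime_primes h.prime hlp]
      intro h3
      rw [h3] at h4
      omega
    · intro h3
      apply hS1
      apply LinearEquiv.ext
      intro v
      apply Subtype.ext
      rw [← ext1_left hnf S v, h3]
      rfl
    · rintro (h3 | h3)
      · rw [hF] at h3
        have h5 : 2 ^ a + 1 = 3 := by omega
        rw [hl, h5]
        norm_num
      · rw [hF] at h3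
        exfalso
        have h5 : 2 ∣ 2 ^ a := dvd_pow_self 2 (by omega)
        omega
    · rw [Nat.card_eq_fintype_card]; exact hord
    · rw [finrank_comS_ext1, hSd]
  · -- odd characteristic
    have hp2 : p ≠ 2 := by
      intro h3
      subst h3
      apply h2
      have h5 : CharP F 2 := charP_of_card_eq_prime_pow (f := a) hF'
      exact CharP.cast_eq_zero F 2
    have hcharp : CharP F p := charP_of_card_eq_prime_pow (f := a) hF'
    obtain ⟨e0, he0, hQe⟩ := exists_singular (res Q (fixS T)) (by rw [hfd]; norm_num)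
    set e : Fin 4 ⊕ Fin 4 → F := (e0 : Fin 4 ⊕ Fin 4 → F) with he
    have hee : e ≠ 0 := fun h3 => he0 (Subtype.ext h3)
    have hQe' : Q e = 0 := hQe
    -- a nonsingular vector orthogonal to `e`
    obtain ⟨d, hdT, hed, hQd⟩ : ∃ d ∈ fixS T, polar Q e d = 0 ∧ Q d ≠ 0 := by
      by_contra hcon
      push Not at hcon
      have h3 := two_mul_finrank_le hnf (U := perp (res Q (fixS T)) (Submodule.span F {e0})) (fun u hu => by
        have h5 : polar (res Q (fixS T)) e0 u = 0 := hu e0 (Submodule.mem_span_singleton_self _)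
        exact hcon u u.2 h5)
      have h5 := finrank_add_perp hnf (Submodule.span F {e0})
      rw [finrank_span_singleton he0] at h5
      omega
    have hde : polar Q d e = 0 := by rw [polar_comm]; exact hed
    have hTe : T e = e := mem_fixS.1 e0.2
    have hTd' : T d = d := mem_fixS.1 hdT
    have hee' : polar Q e e = 0 := polar_self_of_sing hQe'
    have hdd : polar Q d d = 2 * Q d := polar_self' d
    have hform : ∀ v, siegel Q e d hQe' hed v = v + polar Q e v • d - polar Q d v • e - (Q d * polar Q e v) • e :=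
      fun v => siegel_apply hQe' hed v
    have hsq : ∀ v, ((((siegel Q e d hQe' hed : Module.End F (Fin 4 ⊕ Fin 4 → F)) - 1 : Module.End F (Fin 4 ⊕ Fin 4 → F)) ^ 2 :
        Module.End F (Fin 4 ⊕ Fin 4 → F)) : Module.End F (Fin 4 ⊕ Fin 4 → F)) v = (- (2 * Q d) * polar Q e v) • e := by
      intro v
      have h3 : ∀ v, ((siegel Q e d hQe' hed : Module.End F (Fin 4 ⊕ Fin 4 → F)) - 1 : Module.End F (Fin 4 ⊕ Fin 4 → F)) v
          = polar Q e v • d - polar Q d v • e - (Q d * polar Q e v) • e := by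
        intro v
        change siegel Q e d hQe' hed v - v = _
        rw [hform]
        abel
      rw [pow_two, Module.End.mul_apply, h3, h3]
      simp only [polar_sub_right, polar_smul_right, hed, hde, hee', hdd, smul_eq_mul, mul_zero, sub_zero, zero_smul, zero_sub]
      module
    refine ⟨siegel Q e d hQe' hed, p, siegel_mem_O hQe' hed, ?_, ?_, ?_, hp.odd_of_ne_two hp2, ?_, ?_, ?_, Or.inl ?_⟩
    · have h3 : T * siegel Q e d hQe' hed * T⁻¹ = siegel Q e d hQe' hed := by
        rw [siegel_conj hTO hQe' hed (by rw [hTe]; exact hQe') (by rw [hTe, hTd']; exact hed)]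
        congr 1
      exact mul_inv_eq_iff_eq_mul.1 h3
    · intro v hv
      have h3 : ∀ x ∈ fixS T, polar Q x v = 0 := by
        intro x hx
        have h5 : v ∈ perp Q (fixS T) := by rw [hpf]; exact hv
        exact h5 x hx
      rw [hform, h3 e e0.2, h3 d hdT]
      simp
    · have h3 : polar Q e (((p : ℕ) : F) • d) = 0 := by rw [polar_smul_right, hed, smul_zero]
      rw [siegel_pow hQe' hed p h3]
      apply LinearEquiv.ext
      intro v
      rw [siegel_apply, CharP.cast_eq_zero]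
      simp
    · rw [Nat.coprime_primes h.prime hp]
      intro h3
      exact h.not_dvd (by rw [h3])
    · intro h3
      obtain ⟨y, hy⟩ := hQ.exists_polar_eq hee 1
      have h5 := hsq y
      rw [h3, hy] at h5
      have h6 : ((((1 : (Fin 4 ⊕ Fin 4 → F) ≃ₗ[F] (Fin 4 ⊕ Fin 4 → F)) : Module.End F (Fin 4 ⊕ Fin 4 → F)) - 1 :
          Module.End F (Fin 4 ⊕ Fin 4 → F)) ^ 2 : Module.End F (Fin 4 ⊕ Fin 4 → F)) y = 0 := by
        have h7 : (((1 : (Fin 4 ⊕ Fin 4 → F) ≃ₗ[F] (Fin 4 ⊕ Fin 4 → F)) : Module.End F (Fin 4 ⊕ Fin 4 → F)) - 1 :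
            Module.End F (Fin 4 ⊕ Fin 4 → F)) = 0 := by
          apply LinearMap.ext
          intro v
          change v - v = 0
          exact sub_self v
        rw [h7]
        simp
      rw [h6] at h5
      have h8 := smul_eq_zero.1 h5.symm
      rcases h8 with h8 | h8
      · rw [mul_one, neg_eq_zero] at h8
        exact mul_ne_zero h2 hQd h8
      · exact hee h8
    · rintro (h3 | h3)
      · rw [hF] at h3
        exfalso
        have h5 : Odd (p ^ a) := (hp.odd_of_ne_two hp2).pow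
        rw [h3] at h5
        exact absurd h5 (by decide)
      · rw [hF] at h3
        have h5 : p ∣ 3 := by rw [← h3]; exact dvd_pow_self p (by omega)
        exact (Nat.prime_dvd_prime_iff_eq hp Nat.prime_three).1 h5
    · have h3 : LinearMap.range (((siegel Q e d hQe' hed : Module.End F (Fin 4 ⊕ Fin 4 → F)) - 1) ^ 2) = Submodule.span F {e} := by
        apply le_antisymm
        · rintro _ ⟨v, rfl⟩
          rw [hsq]
          exact Submodule.smul_mem _ _ (Submodule.mem_span_singleton_self _)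
        · rw [Submodule.span_singleton_le_iff_mem]
          obtain ⟨y, hy⟩ := hQ.exists_polar_eq hee ((- (2 * Q d))⁻¹)
          refine ⟨y, ?_⟩
          rw [hsq, hy, mul_inv_cancel₀ (neg_ne_zero.2 (mul_ne_zero h2 hQd)), one_smul]
      rw [h3, finrank_span_singleton hee]

end Cfsg.Agent.H375.O8
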